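import Mathlib
import Groth.Prelude.Def_MoreMor
import Groth.Agent.ModPairLib.Charts

/-!
Base change of first order thickenings.
-/

set_option autoImplicit false
universe u

open CategoryTheory Limits AlgebraicGeometry

namespace Groth.Agent.ThickFirst

theorem ker_of_isPullback {Z W P W' : Scheme.{u}} {i : Z ⟶ P} {f : Z ⟶ W} {s : P ⟶ W'} {j : W ⟶ W'}
    [IsClosedImmersion j] (h : IsPullback i f s j) : i.ker = j.ker.comap s := by
  have e : IsPullback (pullback.fst s j.ker.subschemeι) (pullback.snd s j.ker.subschemeι ≫ inv j.toImage) s j := by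
    refine (IsPullback.of_hasPullback s j.ker.subschemeι).of_iso (Iso.refl _) (Iso.refl _)
      (asIso j.toImage).symm (Iso.refl _) ?_ ?_ ?_ ?_
    · simp
    · simp
    · simp
    · simp [Scheme.Hom.imageι]
  rw [← (h.isoIsPullback _ _ e).hom |> fun _ => h.isoIsPullback_hom_fst _ _ e, Scheme.Hom.ker_comp_of_isIso]
  rfl

theorem isFirstOrder_of_isPullback {Z W P W' : Scheme.{u}} {i : Z ⟶ P} {f : Z ⟶ W} {s : P ⟶ W'} {j : W ⟶ W'}
    (h : IsPullback i f s j) (hj : MoreMor.IsFirstOrderThickening j) : MoreMor.IsFirstOrderThickening i := by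
  obtain ⟨⟨hc, hs⟩, hsq⟩ := hj
  refine ⟨⟨MorphismProperty.of_isPullback h.flip hc, MorphismProperty.of_isPullback h.flip hs⟩, ?_⟩
  rw [ker_of_isPullback h, ← ModPairLib.comap_mul, hsq, Scheme.IdealSheafData.comap_bot]

end Groth.Agent.ThickFirst
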