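import Mathlib
import Groth.Prelude.Def_Omega3

/-!
Localisation of universal first order thickenings of rings.
-/

set_option autoImplicit false
universe u

namespace Groth.Agent.ThickFirst

variable (A B B' : Type u) [CommRing A] [CommRing B] [CommRing B'] [Algebra A B] [Algebra A B']
  (π : B' →ₐ[A] B) (hπ : OmegaSh.IsUnivThickeningRing A B B' π)
  (M : Submonoid B') (BS B'S : Type u) [CommRing BS] [CommRing B'S]
  [Algebra B BS] [IsLocalization (M.map π.toRingHom.toMonoidHom) BS]
  [Algebra B' B'S] [IsLocalization M B'S]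

include hπ M in
theorem surjective_and_sq_zero (πS : B'S →+* BS) (hπS : ∀ x : B', πS (algebraMap B' B'S x) = algebraMap B BS (π x)) :
    Function.Surjective πS ∧ RingHom.ker πS ^ 2 = ⊥ := by
  constructor
  · intro y
    obtain ⟨b, ⟨_, s, hs, rfl⟩, rfl⟩ := IsLocalization.exists_mk'_eq (M.map π.toRingHom.toMonoidHom) y
    obtain ⟨b', rfl⟩ := hπ.1 b
    refine ⟨IsLocalization.mk' B'S b' (⟨s, hs⟩ : M), ?_⟩
    rw [IsLocalization.eq_mk'_iff_mul_eq]
    show _ * algebraMap B BS (π s) = _
    rw [← hπS, ← map_mul, IsLocalization.mk'_spec, hπS]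
  · have hle : RingHom.ker πS ≤ (RingHom.ker π.toRingHom).map (algebraMap B' B'S) := by
      intro x hx
      obtain ⟨b', s, rfl⟩ := IsLocalization.exists_mk'_eq M x
      have h : algebraMap B BS (π b') = algebraMap B BS 0 := by
        rw [map_zero, ← hπS, ← IsLocalization.mk'_spec B'S b' s, map_mul, RingHom.mem_ker.1 hx, zero_mul]
      obtain ⟨⟨_, u, hu, rfl⟩, hu0⟩ := (IsLocalization.eq_iff_exists (M.map π.toRingHom.toMonoidHom) BS).1 h
      refine (IsLocalization.mk'_mem_map_algebraMap_iff M B'S _ b' s).2 ⟨u, hu, ?_⟩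
      rw [RingHom.mem_ker, map_mul]
      simpa using hu0
    refine eq_bot_iff.2 ((Ideal.pow_right_mono hle 2).trans ?_)
    rw [← Ideal.map_pow, hπ.2.1, Ideal.map_bot]

variable (R : Type u) [CommRing R] [Algebra A R] [Algebra R BS] [Algebra A BS] [IsScalarTower A R BS]
  [IsScalarTower A B BS] [Algebra R B'S] [Algebra A B'S] [IsScalarTower A R B'S] [IsScalarTower A B' B'S]

include hπ M in
/-- The localisation `B'[M⁻¹] → B[π(M)⁻¹]` is universal relative to `R`, if `A → R` is an epimorphism of rings. -/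
theorem isUniv_localization (πS : B'S →ₐ[R] BS)
    (hπS : ∀ x : B', πS (algebraMap B' B'S x) = algebraMap B BS (π x))
    (hepi : ∀ (C : Type u) [CommRing C] (g h : R →+* C), g.comp (algebraMap A R) = h.comp (algebraMap A R) → g = h) :
    OmegaSh.IsUnivThickeningRing R BS B'S πS := by
  refine ⟨(surjective_and_sq_zero A B B' π hπ M BS B'S πS.toRingHom hπS).1,
    (surjective_and_sq_zero A B B' π hπ M BS B'S πS.toRingHom hπS).2, fun C _ _ I hI a => ?_⟩
  let : Algebra A C := ((algebraMap R C).comp (algebraMap A R)).toAlgebra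
  have : IsScalarTower A R C := IsScalarTower.of_algebraMap_eq fun _ => rfl
  have : IsScalarTower A R (C ⧸ I) := IsScalarTower.of_algebraMap_eq fun _ => rfl
  let a₀ : B →ₐ[A] C ⧸ I := (a.restrictScalars A).comp (IsScalarTower.toAlgHom A B BS)
  obtain ⟨g, hg, huq⟩ := hπ.2.2 C I hI a₀
  have hg' : ∀ x, Ideal.Quotient.mk I (g x) = a (algebraMap B BS (π x)) := fun x => AlgHom.congr_fun hg x
  have hunit : ∀ s : M, IsUnit (g s) := fun s => by
    refine (IsNilpotent.isUnit_quotient_mk_iff ⟨2, hI⟩).1 ?_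
    rw [hg']
    exact (IsLocalization.map_units BS (⟨π s, Submonoid.mem_map_of_mem π.toRingHom.toMonoidHom s.2⟩ :
      M.map π.toRingHom.toMonoidHom)).map a
  let g' : B'S →+* C := IsLocalization.lift (g := g.toRingHom) hunit
  have hg'' : ∀ x, g' (algebraMap B' B'S x) = g x := fun x => IsLocalization.lift_eq hunit x
  have hR : ∀ r, g' (algebraMap R B'S r) = algebraMap R C r := fun r => by
    refine RingHom.congr_fun (hepi C (g'.comp (algebraMap R B'S)) (algebraMap R C) (RingHom.ext fun x => ?_)) r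
    show g' (algebraMap R B'S (algebraMap A R x)) = algebraMap A C x
    rw [← IsScalarTower.algebraMap_apply, IsScalarTower.algebraMap_apply A B' B'S, hg'', AlgHom.commutes]
  let G : B'S →ₐ[R] C := { toRingHom := g', commutes' := hR }
  refine ⟨G, ?_, fun G₁ hG₁ => ?_⟩
  · refine AlgHom.coe_ringHom_injective (IsLocalization.ringHom_ext M (RingHom.ext fun x => ?_))
    show Ideal.Quotient.mk I (g' (algebraMap B' B'S x)) = a (πS (algebraMap B' B'S x))
    rw [hg'', hg', hπS]
  · refine AlgHom.coe_ringHom_injective (IsLocalization.ringHom_ext M (RingHom.ext fun x => ?_))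
    show G₁ (algebraMap B' B'S x) = g' (algebraMap B' B'S x)
    rw [hg'']
    refine AlgHom.congr_fun (huq ((G₁.restrictScalars A).comp (IsScalarTower.toAlgHom A B' B'S)) ?_) x
    refine AlgHom.ext fun y => ?_
    have h := AlgHom.congr_fun hG₁ (algebraMap B' B'S y)
    refine h.trans ?_
    show a (πS (algebraMap B' B'S y)) = a (algebraMap B BS (π y))
    rw [hπS]

end Groth.Agent.ThickFirst
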